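import Mathlib

/-!
# Cycles in bounded below complexes of injectives with acyclic cohomology
-/

set_option autoImplicit false
set_option backward.isDefEq.respectTransparency false

universe w v u

open CategoryTheory CategoryTheory.Limits CategoryTheory.Abelian HomologicalComplex

noncomputable section

namespace DerLiftLib

variable {A : Type u} [Category.{v} A] [Abelian A] [HasExt.{w} A]

/-- `M` has no higher extensions by `P`. -/
def Acy (P M : A) : Prop := ∀ q : ℕ, 0 < q → Subsingleton (Ext.{w} P M q)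

theorem acy_of_isZero (P : A) {M : A} (h : IsZero M) : Acy P M := fun q _ => by
  refine subsingleton_of_forall_eq 0 fun x => ?_
  have e : x = x.comp (Ext.mk₀ (𝟙 M)) (add_zero q) := (Ext.comp_mk₀_id x).symm
  rw [e, h.eq_of_src (𝟙 M) 0, Ext.mk₀_zero, Ext.comp_zero]

theorem acy_of_iso (P : A) {M N : A} (e : M ≅ N) (h : Acy P M) : Acy P N := fun q hq => by
  haveI := h q hq
  refine subsingleton_of_forall_eq 0 fun x => ?_
  have hx : x.comp (Ext.mk₀ e.inv) (add_zero q) = 0 := Subsingleton.elim _ _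
  have := congrArg (fun t => Ext.comp t (Ext.mk₀ e.hom) (add_zero q)) hx
  rwa [Ext.comp_assoc_of_third_deg_zero, Ext.mk₀_comp_mk₀, e.inv_hom_id, Ext.comp_mk₀_id, Ext.zero_comp] at this

theorem acy_mid {P : A} {S : ShortComplex A} (hS : S.ShortExact) (h1 : Acy P S.X₁) (h3 : Acy P S.X₃) :
    Acy P S.X₂ := fun q hq => by
  haveI := h1 q hq
  haveI := h3 q hq
  refine subsingleton_of_forall_eq 0 fun x => ?_
  obtain ⟨y, hy⟩ := Ext.covariant_sequence_exact₂ P hS x (Subsingleton.elim _ _)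
  rw [← hy, Subsingleton.elim y 0, Ext.zero_comp]

theorem acy_quot {P : A} {S : ShortComplex A} (hS : S.ShortExact) [Injective S.X₂] (h1 : Acy P S.X₁) :
    Acy P S.X₃ := fun q hq => by
  obtain ⟨q, rfl⟩ : ∃ p, q = p + 1 := ⟨q - 1, by omega⟩
  haveI := h1 (q + 2) (by omega)
  refine subsingleton_of_forall_eq 0 fun x => ?_
  obtain ⟨y, hy⟩ := Ext.covariant_sequence_exact₃ P hS x (n₁ := q + 2) rfl (Subsingleton.elim _ _)
  rw [← hy, Ext.eq_zero_of_injective y, Ext.zero_comp]

theorem exists_lift {P : A} {S : ShortComplex A} (hS : S.ShortExact) (h1 : Acy P S.X₁) (h : P ⟶ S.X₃) :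
    ∃ l : P ⟶ S.X₂, l ≫ S.g = h := by
  haveI := h1 1 Nat.one_pos
  obtain ⟨y, hy⟩ := Ext.covariant_sequence_exact₃ P hS (Ext.mk₀ h) (zero_add 1) (Subsingleton.elim _ _)
  obtain ⟨l, rfl⟩ := (Ext.mk₀_bijective _ _).2 y
  rw [Ext.mk₀_comp_mk₀] at hy
  exact ⟨l, (Ext.mk₀_bijective _ _).1 hy⟩

section Cx

variable (K : CochainComplex A ℤ)

/-- The boundaries in degree `i + 1`. -/
abbrev bd (j : ℤ) : A := kernel (K.homologyπ j)

/-- The differential onto the boundaries. -/
def toBd (i j : ℤ) : K.X i ⟶ bd K j :=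
  kernel.lift _ (K.toCycles i j) (K.toCycles_comp_homologyπ i j)

theorem toBd_ι (i j : ℤ) : toBd K i j ≫ kernel.ι (K.homologyπ j) = K.toCycles i j := kernel.lift_ι _ _ _

theorem epi_toBd {i j : ℤ} (hij : i + 1 = j) : Epi (toBd K i j) :=
  (ShortComplex.exact_of_g_is_cokernel (ShortComplex.mk _ _ (K.toCycles_comp_homologyπ i j))
    (K.homologyIsCokernel i j (by simp; omega))).epi_kernelLift

theorem iCycles_toBd {i j : ℤ} : K.iCycles i ≫ toBd K i j = 0 := by
  rw [← cancel_mono (kernel.ι (K.homologyπ j)), ← cancel_mono (K.iCycles j), Category.assoc, Category.assoc,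
    Category.assoc, ← Category.assoc (toBd K i j), toBd_ι, toCycles_i, iCycles_d]
  simp

theorem shortExact_toBd {i j : ℤ} (hij : i + 1 = j) :
    (ShortComplex.mk (K.iCycles i) (toBd K i j) (iCycles_toBd K)).ShortExact := by
  haveI := epi_toBd K hij
  refine { exact := ShortComplex.exact_of_f_is_kernel _ (KernelFork.IsLimit.ofι' _ _ fun {W} k hk => ?_) }
  have hk' : k ≫ K.d i j = 0 := by
    have h1 := congrArg (fun t => t ≫ kernel.ι (K.homologyπ j) ≫ K.iCycles j) hk
    simp only [zero_comp] at h1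
    rwa [Category.assoc, ← Category.assoc (toBd K i j), toBd_ι, toCycles_i] at h1
  exact ⟨K.liftCycles k j (by simp; omega) hk', K.liftCycles_i _ _ _ _⟩

theorem shortExact_homologyπ (j : ℤ) :
    (ShortComplex.mk (kernel.ι (K.homologyπ j)) (K.homologyπ j) (kernel.condition _)).ShortExact :=
  { exact := ShortComplex.exact_of_f_is_kernel _ (kernelIsKernel _) }

variable {K} {P : A}

theorem acy_cycles (hinj : ∀ n, Injective (K.X n)) (hH : ∀ j, Acy P (K.homology j)) (a : ℤ)
    [K.IsStrictlyGE a] (j : ℤ) : Acy P (K.cycles j) := by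
  have hlow : ∀ i, i < a → Acy P (K.cycles i) := fun i hi =>
    acy_of_isZero P ((K.isZero_of_isStrictlyGE a i hi).of_mono (K.iCycles i))
  by_cases h : j < a
  · exact hlow j h
  · have h' : a - 1 ≤ j := by omega
    clear h
    induction j, h' using Int.le_induction with
    | base => exact hlow _ (by omega)
    | succ i hi ih =>
      haveI := hinj i
      exact acy_mid (shortExact_homologyπ K (i + 1))
        (acy_quot (shortExact_toBd K (i := i) (j := i + 1) rfl) ih) (hH _)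

theorem acy_bd (hinj : ∀ n, Injective (K.X n)) (hH : ∀ j, Acy P (K.homology j)) (a : ℤ)
    [K.IsStrictlyGE a] (j : ℤ) : Acy P (bd K j) := by
  haveI := hinj (j - 1)
  exact acy_quot (shortExact_toBd K (i := j - 1) (j := j) (by omega)) (acy_cycles hinj hH a (j - 1))

variable (K)

/-- A cocycle with values in `K`. -/
abbrev IsCyc {j : ℤ} (z : P ⟶ K.X j) : Prop := z ≫ K.d j (j + 1) = 0

/-- Its class. -/
def cls {j : ℤ} (z : P ⟶ K.X j) (hz : IsCyc K z) : P ⟶ K.homology j :=
  K.liftCycles z (j + 1) (by simp) hz ≫ K.homologyπ j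

variable {K}

theorem exists_cyc (hinj : ∀ n, Injective (K.X n)) (hH : ∀ j, Acy P (K.homology j)) (a : ℤ)
    [K.IsStrictlyGE a] {j : ℤ} (h : P ⟶ K.homology j) :
    ∃ (z : P ⟶ K.X j) (hz : IsCyc K z), cls K z hz = h := by
  obtain ⟨l, hl⟩ := exists_lift (shortExact_homologyπ K j) (acy_bd hinj hH a j) h
  have hz : IsCyc K (l ≫ K.iCycles j) := by rw [IsCyc, Category.assoc, iCycles_d, comp_zero]
  refine ⟨l ≫ K.iCycles j, hz, ?_⟩
  have e : K.liftCycles (l ≫ K.iCycles j) (j + 1) (by simp) hz = l := by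
    rw [← cancel_mono (K.iCycles j), liftCycles_i]
  rw [cls, e]
  exact hl

theorem exists_bdry (hinj : ∀ n, Injective (K.X n)) (hH : ∀ j, Acy P (K.homology j)) (a : ℤ)
    [K.IsStrictlyGE a] {i j : ℤ} (hij : i + 1 = j) (z : P ⟶ K.X j) (hz : IsCyc K z) (h0 : cls K z hz = 0) :
    ∃ w : P ⟶ K.X i, w ≫ K.d i j = z := by
  let b : P ⟶ bd K j := kernel.lift _ (K.liftCycles z (j + 1) (by simp) hz) h0
  obtain ⟨w, hw⟩ := exists_lift (shortExact_toBd K hij) (acy_cycles hinj hH a i) b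
  refine ⟨w, ?_⟩
  change w ≫ toBd K i j = b at hw
  have e := congrArg (fun t => t ≫ kernel.ι (K.homologyπ j) ≫ K.iCycles j) hw
  simp only [b, Category.assoc, kernel.lift_ι_assoc, liftCycles_i] at e
  rwa [← Category.assoc (toBd K i j), toBd_ι, toCycles_i] at e

theorem cls_congr {j : ℤ} {z z' : P ⟶ K.X j} (e : z = z') (hz : IsCyc K z) (hz' : IsCyc K z') :
    cls K z hz = cls K z' hz' := by
  subst e
  rfl

theorem cls_map {L : CochainComplex A ℤ} (φ : K ⟶ L) {j : ℤ} (z : P ⟶ K.X j) (hz : IsCyc K z) :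
    ∃ hz' : IsCyc L (z ≫ φ.f j), cls L (z ≫ φ.f j) hz' = cls K z hz ≫ homologyMap φ j := by
  have hz' : IsCyc L (z ≫ φ.f j) := by rw [IsCyc, Category.assoc, φ.comm, reassoc_of% hz, zero_comp]
  refine ⟨hz', ?_⟩
  rw [cls, cls, Category.assoc, homologyπ_naturality, ← Category.assoc]
  refine congrArg (· ≫ L.homologyπ j) ?_
  rw [← cancel_mono (L.iCycles j), liftCycles_i, Category.assoc, cyclesMap_i, liftCycles_i_assoc]

theorem cls_sub {j : ℤ} (z z' : P ⟶ K.X j) (hz : IsCyc K z) (hz' : IsCyc K z') :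
    ∃ h : IsCyc K (z - z'), cls K (z - z') h = cls K z hz - cls K z' hz' := by
  have h : IsCyc K (z - z') := by rw [IsCyc, Preadditive.sub_comp, hz, hz', sub_zero]
  refine ⟨h, ?_⟩
  rw [cls, cls, cls, ← Preadditive.sub_comp]
  refine congrArg (· ≫ K.homologyπ j) ?_
  rw [← cancel_mono (K.iCycles j), Preadditive.sub_comp, liftCycles_i, liftCycles_i, liftCycles_i]

theorem cls_comp {j : ℤ} {P' : A} (g : P' ⟶ P) (z : P ⟶ K.X j) (hz : IsCyc K z) :
    ∃ h : IsCyc K (g ≫ z), cls K (g ≫ z) h = g ≫ cls K z hz := by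
  have h : IsCyc K (g ≫ z) := by rw [IsCyc, Category.assoc, hz, comp_zero]
  refine ⟨h, ?_⟩
  rw [cls, cls, ← Category.assoc]
  refine congrArg (· ≫ K.homologyπ j) ?_
  rw [← cancel_mono (K.iCycles j), liftCycles_i, Category.assoc, liftCycles_i]

theorem cls_boundary {i j : ℤ} (w : P ⟶ K.X i) :
    ∃ h : IsCyc K (w ≫ K.d i j), cls K (w ≫ K.d i j) h = 0 :=
  ⟨by rw [IsCyc, Category.assoc, d_comp_d, comp_zero],
    K.liftCycles_homologyπ_eq_zero_of_boundary _ _ _ w rfl⟩

end Cx

end DerLiftLib
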