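import Groth.Agent.DerLiftLib.Tower

/-!
# Lifting cohomology classes of unbounded complexes with acyclic cohomology
-/

set_option autoImplicit false
set_option backward.isDefEq.respectTransparency false

universe w v u

open CategoryTheory CategoryTheory.Limits CategoryTheory.Abelian HomologicalComplex CochainComplex Opposite

noncomputable section

namespace DerLiftLib

variable {A : Type u} [Category.{v} A] [Abelian A] [EnoughInjectives A] [HasExt.{w} A]
  [HasLimitsOfShape ℕᵒᵖ A] (Q : CochainComplex A ℤ)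

/-- The tower as a functor. -/
def tower : ℕᵒᵖ ⥤ CochainComplex A ℤ :=
  Functor.ofOpSequence (X := fun n => (stage Q n).I) (trans Q)

theorem tower_map (n : ℕ) : (tower Q).map (homOfLE (Nat.le_succ n)).op = trans Q n :=
  Functor.ofOpSequence_map_homOfLE_succ _ n

/-- The limit. -/
def lim : CochainComplex A ℤ := limit (tower Q)

/-- The projections. -/
def proj (n : ℕ) : lim Q ⟶ (stage Q n).I := limit.π (tower Q) (op n)

theorem proj_trans (n : ℕ) : proj Q (n + 1) ≫ trans Q n = proj Q n := by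
  rw [← tower_map]
  exact limit.w (tower Q) _

/-- The transition between arbitrary stages. -/
def tr {n m : ℕ} (h : n ≤ m) : (stage Q m).I ⟶ (stage Q n).I := (tower Q).map (homOfLE h).op

theorem tr_comp {n m k : ℕ} (h : n ≤ m) (h' : m ≤ k) : tr Q h' ≫ tr Q h = tr Q (h.trans h') :=
  ((tower Q).map_comp _ _).symm

theorem tr_succ (n : ℕ) : tr Q (Nat.le_succ n) = trans Q n := tower_map Q n

theorem proj_tr {n m : ℕ} (h : n ≤ m) : proj Q m ≫ tr Q h = proj Q n := limit.w (tower Q) _

/-- The comparison. -/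
def toLim : Q ⟶ lim Q :=
  limit.lift (tower Q) (Cone.mk Q (NatTrans.ofOpSequence (F := (Functor.const ℕᵒᵖ).obj Q) (G := tower Q)
    (fun n => (stage Q n).q) (fun n =>
      (Category.id_comp _).trans ((q_trans Q n).symm.trans (congrArg ((stage Q (n + 1)).q ≫ ·) (tower_map Q n).symm)))))

theorem toLim_proj (n : ℕ) : toLim Q ≫ proj Q n = (stage Q n).q := limit.lift_π _ _

theorem q_tr {n m : ℕ} (h : n ≤ m) : (stage Q m).q ≫ tr Q h = (stage Q n).q := by
  rw [← toLim_proj, Category.assoc, proj_tr, toLim_proj]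

theorem lim_ext {j : ℤ} {P : A} {a b : P ⟶ (lim Q).X j} (h : ∀ n, a ≫ (proj Q n).f j = b ≫ (proj Q n).f j) :
    a = b :=
  (isLimitOfPreserves (eval A (ComplexShape.up ℤ) j) (limit.isLimit (tower Q))).hom_ext fun n => h n.unop

theorem exists_lim_map {j : ℤ} {P : A} (z : ∀ n, P ⟶ (stage Q n).I.X j)
    (hz : ∀ n, z (n + 1) ≫ (trans Q n).f j = z n) :
    ∃ a : P ⟶ (lim Q).X j, ∀ n, a ≫ (proj Q n).f j = z n := by
  let c : Cone (tower Q ⋙ eval A (ComplexShape.up ℤ) j) :=
    Cone.mk P (NatTrans.ofOpSequence (F := (Functor.const ℕᵒᵖ).obj P) (G := tower Q ⋙ eval A (ComplexShape.up ℤ) j)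
      z (fun n => by
        refine (Category.id_comp _).trans ?_
        rw [Functor.comp_map, tower_map]
        exact (hz n).symm))
  exact ⟨(isLimitOfPreserves (eval A (ComplexShape.up ℤ) j) (limit.isLimit (tower Q))).lift c,
    fun n => (isLimitOfPreserves (eval A (ComplexShape.up ℤ) j) (limit.isLimit (tower Q))).fac c (op n)⟩

variable {Q} {P : A} (hP : ∀ j, Acy P (Q.homology j))
include hP

theorem exists_cyc_lim {j : ℤ} (h : P ⟶ Q.homology j) :
    ∃ (z : P ⟶ (lim Q).X j) (hz : IsCyc (lim Q) z), ∀ n,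
      cls (lim Q) z hz ≫ homologyMap (proj Q n) j = h ≫ homologyMap (stage Q n).q j := by
  let Ok : ∀ n, (P ⟶ (stage Q n).I.X j) → Prop := fun n z =>
    ∃ hz : IsCyc _ z, cls _ z hz = h ≫ homologyMap (stage Q n).q j
  have step : ∀ n (z : {z // Ok n z}), ∃ z' : {z // Ok (n + 1) z}, z'.1 ≫ (trans Q n).f j = z.1 := by
    rintro n ⟨z, hz, hcz⟩
    haveI := (stage Q n).ge
    haveI := (stage Q (n + 1)).ge
    obtain ⟨y, hy, hcy⟩ := exists_cyc (stage Q (n + 1)).inj (acy_homology_stage _ hP) (-(2 * ((n + 1 : ℕ) : ℤ)) - 1)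
      (h ≫ homologyMap (stage Q (n + 1)).q j)
    obtain ⟨hyt, hcyt⟩ := cls_map (trans Q n) y hy
    rw [hcy, Category.assoc, ← homologyMap_comp, q_trans, ← hcz] at hcyt
    obtain ⟨hd, hcd⟩ := cls_sub _ _ hyt hz
    rw [hcyt, sub_self] at hcd
    obtain ⟨w, hw⟩ := exists_bdry (stage Q n).inj (acy_homology_stage _ hP) (-(2 * (n : ℤ)) - 1)
      (i := j - 1) (by omega) _ hd hcd
    obtain ⟨s, hs⟩ := exists_section Q n (j - 1)
    obtain ⟨hb, hcb⟩ := cls_boundary (K := (stage Q (n + 1)).I) (j := j) (w ≫ s)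
    obtain ⟨hy', hcy'⟩ := cls_sub _ _ hy hb
    rw [hcy, hcb, sub_zero] at hcy'
    refine ⟨⟨_, hy', hcy'⟩, ?_⟩
    show (y - (w ≫ s) ≫ _) ≫ _ = z
    rw [Preadditive.sub_comp, Category.assoc, ← Hom.comm, Category.assoc, reassoc_of% hs, hw, sub_sub_cancel]
  choose next hnext using step
  have e0 : ∃ z, Ok 0 z := by
    haveI := (stage Q 0).ge
    exact exists_cyc (stage Q 0).inj (acy_homology_stage _ hP) (-(2 * ((0 : ℕ) : ℤ)) - 1)
      (h ≫ homologyMap (stage Q 0).q j)
  let z0 : {z // Ok 0 z} := ⟨e0.choose, e0.choose_spec⟩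
  let zs : ∀ n, {z // Ok n z} := fun n => Nat.rec z0 next n
  obtain ⟨a, ha⟩ := exists_lim_map Q (fun n => (zs n).1) (fun n => hnext n (zs n))
  have hcyc : IsCyc (lim Q) a := lim_ext Q fun n => by
    rw [Category.assoc, ← Hom.comm, reassoc_of% (ha n), zero_comp]
    exact (zs n).2.1
  refine ⟨a, hcyc, fun n => ?_⟩
  obtain ⟨h', e⟩ := cls_map (proj Q n) a hcyc
  rw [← e, cls_congr (ha n) h' (zs n).2.1]
  exact (zs n).2.2

theorem exists_bdry_lim {j : ℤ} (z : P ⟶ (lim Q).X j) (hz : IsCyc (lim Q) z)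
    (h0 : ∀ n, cls (lim Q) z hz ≫ homologyMap (proj Q n) j = 0) :
    cls (lim Q) z hz = 0 := by
  let N : ℕ := (1 - j).toNat
  let i : ℤ := j - 1
  let zn : ∀ n, P ⟶ (stage Q n).I.X j := fun n => z ≫ (proj Q n).f j
  have hzn : ∀ n, zn (n + 1) ≫ (trans Q n).f j = zn n := fun n => by
    show (z ≫ _) ≫ _ = _
    rw [Category.assoc, ← comp_f, proj_trans]
  let Ok : ∀ n, (P ⟶ (stage Q n).I.X i) → Prop := fun n w => w ≫ (stage Q n).I.d i j = zn n
  have step : ∀ k (w : {w // Ok (N + k) w}), ∃ w' : {w // Ok (N + k + 1) w}, w'.1 ≫ (trans Q (N + k)).f i = w.1 := by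
    rintro k ⟨w, hw⟩
    haveI := (stage Q (N + k)).ge
    haveI := (stage Q (N + k + 1)).ge
    obtain ⟨h', e'⟩ := cls_map (proj Q (N + k + 1)) z hz
    rw [h0] at e'
    obtain ⟨y, hy⟩ := exists_bdry (stage Q (N + k + 1)).inj (acy_homology_stage _ hP)
      (-(2 * ((N + k + 1 : ℕ) : ℤ)) - 1) (i := i) (by omega) _ h' e'
    have hd : IsCyc (stage Q (N + k)).I (y ≫ (trans Q (N + k)).f i - w) := by
      rw [IsCyc, Preadditive.sub_comp, Category.assoc, show i + 1 = j by omega, hw, Hom.comm, reassoc_of% hy,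
        ← comp_f, proj_trans, sub_self]
    have hk : -(2 * ((N + k : ℕ) : ℤ)) ≤ i := by simp only [N, i]; omega
    haveI := (stage Q (N + k)).iso i hk
    haveI := (stage Q (N + k + 1)).iso i (by omega)
    haveI : IsIso (homologyMap (stage Q (N + k + 1)).q i ≫ homologyMap (trans Q (N + k)) i) := by
      rw [← homologyMap_comp, q_trans]; infer_instance
    haveI := IsIso.of_isIso_comp_left (homologyMap (stage Q (N + k + 1)).q i) (homologyMap (trans Q (N + k)) i)
    obtain ⟨c, hc, hcc⟩ := exists_cyc (stage Q (N + k + 1)).inj (acy_homology_stage _ hP)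
      (-(2 * ((N + k + 1 : ℕ) : ℤ)) - 1) (cls _ _ hd ≫ inv (homologyMap (trans Q (N + k)) i))
    obtain ⟨hct, hcct⟩ := cls_map (trans Q (N + k)) c hc
    rw [hcc, Category.assoc, IsIso.inv_hom_id, Category.comp_id] at hcct
    obtain ⟨hdd, hcdd⟩ := cls_sub _ _ hd hct
    rw [hcct, sub_self] at hcdd
    obtain ⟨v, hv⟩ := exists_bdry (stage Q (N + k)).inj (acy_homology_stage _ hP) (-(2 * ((N + k : ℕ) : ℤ)) - 1)
      (i := i - 1) (by omega) _ hdd hcdd
    obtain ⟨s, hs⟩ := exists_section Q (N + k) (i - 1)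
    have hc' : c ≫ (stage Q (N + k + 1)).I.d i j = 0 := by
      have : c ≫ (stage Q (N + k + 1)).I.d i (i + 1) = 0 := hc
      rwa [show i + 1 = j by omega] at this
    refine ⟨⟨y - c - (v ≫ s) ≫ (stage Q (N + k + 1)).I.d (i - 1) i, ?_⟩, ?_⟩
    · show _ ≫ _ = _
      rw [Preadditive.sub_comp, Preadditive.sub_comp, Category.assoc (v ≫ s), d_comp_d, comp_zero, sub_zero,
        hy, hc', sub_zero]
    · show (y - c - _) ≫ _ = w
      rw [Preadditive.sub_comp, Preadditive.sub_comp, Category.assoc, ← Hom.comm, Category.assoc,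
        reassoc_of% hs, hv]
      abel
  choose next hnext using step
  have e0 : ∃ w, Ok (N + 0) w := by
    haveI := (stage Q (N + 0)).ge
    obtain ⟨h', e'⟩ := cls_map (proj Q (N + 0)) z hz
    rw [h0] at e'
    exact exists_bdry (stage Q (N + 0)).inj (acy_homology_stage _ hP)
      (-(2 * ((N + 0 : ℕ) : ℤ)) - 1) (i := i) (by omega) _ h' e'
  let w0 : {w // Ok (N + 0) w} := ⟨e0.choose, e0.choose_spec⟩
  let ws : ∀ k, {w // Ok (N + k) w} := fun k => Nat.rec w0 next k
  let wn : ∀ n, P ⟶ (stage Q n).I.X i := fun n => (ws n).1 ≫ (tr Q (Nat.le_add_left n N)).f i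
  have hwn : ∀ n, wn (n + 1) ≫ (trans Q n).f i = wn n := fun n => by
    show ((ws (n + 1)).1 ≫ _) ≫ _ = (ws n).1 ≫ _
    rw [← hnext n (ws n), ← tr_succ Q n, ← tr_succ Q (N + n), Category.assoc, Category.assoc, ← comp_f, ← comp_f,
      tr_comp, tr_comp]
  obtain ⟨b, hb⟩ := exists_lim_map Q wn hwn
  have : b ≫ (lim Q).d i j = z := lim_ext Q fun n => by
    rw [Category.assoc, ← Hom.comm, reassoc_of% (hb n)]
    show ((ws n).1 ≫ _) ≫ _ = _
    rw [Category.assoc, Hom.comm, reassoc_of% (ws n).2]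
    show (z ≫ _) ≫ _ = _
    rw [Category.assoc, ← comp_f, proj_tr]
  obtain ⟨h', e⟩ := cls_boundary (K := lim Q) (j := j) b
  rw [← cls_congr this h' hz, e]

omit hP

/-- If the cohomology is acyclic for a separating family, the comparison is a quasi-isomorphism. -/
theorem quasiIso_toLim {ι : Type*} (G : ι → A) (hsep : ∀ {M N : A} (f : M ⟶ N), (∀ (i : ι) (g : G i ⟶ M), g ≫ f = 0) → f = 0)
    (hG : ∀ i j, Acy (G i) (Q.homology j)) : QuasiIso (toLim Q) := by
  refine ⟨fun j => ?_⟩
  rw [quasiIsoAt_iff_isIso_homologyMap]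
  obtain ⟨N, hN⟩ : ∃ N : ℕ, -(2 * (N : ℤ)) ≤ j := ⟨(-j).toNat, by omega⟩
  haveI := (stage Q N).iso j hN
  haveI : IsIso (homologyMap (toLim Q) j ≫ homologyMap (proj Q N) j) := by
    rw [← homologyMap_comp, toLim_proj]; infer_instance
  have hmono : Mono (homologyMap (proj Q N) j) := by
    refine Preadditive.mono_of_cancel_zero _ fun {W} g0 hg0 => ?_
    let k := (lim Q).homologyπ j ≫ homologyMap (proj Q N) j
    have hk : kernel.ι k ≫ (lim Q).homologyπ j = 0 := hsep _ fun i g => by
      let z := g ≫ kernel.ι k ≫ (lim Q).iCycles j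
      have hz : IsCyc (lim Q) z := by simp [z, IsCyc]
      have e : cls (lim Q) z hz = g ≫ kernel.ι k ≫ (lim Q).homologyπ j := by
        have h1 : (lim Q).liftCycles z (j + 1) (by simp) hz = g ≫ kernel.ι k := by
          rw [← cancel_mono ((lim Q).iCycles j), liftCycles_i, Category.assoc]
        rw [cls, h1, Category.assoc]
      rw [← e]
      refine exists_bdry_lim (hG i) z hz fun n => ?_
      -- every stage is controlled by the stage `N`
      have hN0 : cls (lim Q) z hz ≫ homologyMap (proj Q N) j = 0 := by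
        rw [e, Category.assoc, Category.assoc, kernel.condition, comp_zero]
      rcases le_total n N with h | h
      · rw [← proj_tr Q h, homologyMap_comp, reassoc_of% hN0, zero_comp]
      · haveI := (stage Q n).iso j (by omega)
        haveI : IsIso (homologyMap (stage Q n).q j ≫ homologyMap (tr Q h) j) := by
          rw [← homologyMap_comp, q_tr]; infer_instance
        haveI := IsIso.of_isIso_comp_left (homologyMap (stage Q n).q j) (homologyMap (tr Q h) j)
        refine (cancel_mono (homologyMap (tr Q h) j)).1 ?_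
        rw [Category.assoc, ← homologyMap_comp, proj_tr, zero_comp]
        exact hN0
    let p := pullback.snd g0 ((lim Q).homologyπ j)
    have hp : p ≫ k = 0 := by
      simp only [p, k]
      rw [← pullback.condition_assoc, hg0, comp_zero]
    rw [← cancel_epi (pullback.fst g0 ((lim Q).homologyπ j)), comp_zero, pullback.condition]
    show p ≫ _ = 0
    rw [← kernel.lift_ι k p hp, Category.assoc, hk, comp_zero]
  haveI := hmono
  haveI : IsIso (homologyMap (proj Q N) j) := by
    haveI : Epi (homologyMap (proj Q N) j) := epi_of_epi (homologyMap (toLim Q) j) _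
    exact isIso_of_mono_of_epi _
  exact IsIso.of_isIso_comp_right (homologyMap (toLim Q) j) (homologyMap (proj Q N) j)

variable [HasDerivedCategory A]

/-- Classes lift to morphisms in the derived category. -/
theorem exists_hom {ι : Type*} (G : ι → A) (hsep : ∀ {M N : A} (f : M ⟶ N), (∀ (i : ι) (g : G i ⟶ M), g ≫ f = 0) → f = 0)
    (hG : ∀ i j, Acy (G i) (Q.homology j)) (hP : ∀ j, Acy P (Q.homology j)) {j : ℤ} (h : P ⟶ Q.homology j)
    (hh : h ≠ 0) : ∃ x : (DerivedCategory.singleFunctor A j).obj P ⟶ DerivedCategory.Q.obj Q, x ≠ 0 := by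
  haveI := quasiIso_toLim G hsep hG
  obtain ⟨z, hz, hcl⟩ := exists_cyc_lim hP h
  obtain ⟨N, hN⟩ : ∃ N : ℕ, -(2 * (N : ℤ)) ≤ j := ⟨(-j).toNat, by omega⟩
  haveI := (stage Q N).iso j hN
  let φ : (HomologicalComplex.single A (ComplexShape.up ℤ) j).obj P ⟶ lim Q :=
    mkHomFromSingle z (fun k hk => by obtain rfl : j + 1 = k := hk; exact hz)
  let e := (DerivedCategory.singleFunctorIsoCompQ A j).app P
  refine ⟨e.hom ≫ DerivedCategory.Q.map φ ≫ inv (DerivedCategory.Q.map (toLim Q)), fun h0 => hh ?_⟩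
  have h1 : DerivedCategory.Q.map φ = 0 := by
    rw [← cancel_epi e.hom, ← cancel_mono (inv (DerivedCategory.Q.map (toLim Q)))]
    simpa only [Category.assoc, comp_zero, zero_comp] using h0
  have h2 : homologyMap φ j = 0 := by
    have h3 := NatIso.naturality_1 (DerivedCategory.homologyFunctorFactors A j) φ
    simp only [Functor.comp_map, h1, Functor.map_zero, comp_zero, zero_comp] at h3
    exact h3.symm
  have h5 : cls (lim Q) z hz = 0 := by
    have hid : IsCyc ((HomologicalComplex.single A (ComplexShape.up ℤ) j).obj P)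
        (singleObjXSelf (ComplexShape.up ℤ) j P).inv := by
      rw [IsCyc, single_obj_d, comp_zero]
    obtain ⟨h', e'⟩ := cls_map φ _ hid
    rw [h2, comp_zero] at e'
    have : (singleObjXSelf (ComplexShape.up ℤ) j P).inv ≫ φ.f j = z := by
      simp [φ]
    rw [← cls_congr this h' hz, e']
  have h6 := hcl N
  rw [h5, zero_comp] at h6
  exact (cancel_mono (homologyMap (stage Q N).q j)).1 (h6.symm.trans zero_comp.symm)

end DerLiftLib
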