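import Groth.Agent.DerLiftLib.Acyclic

/-!
# A tower of bounded below injective replacements of a complex
-/

set_option autoImplicit false
set_option backward.isDefEq.respectTransparency false

universe w v u

open CategoryTheory CategoryTheory.Limits CategoryTheory.Abelian HomologicalComplex CochainComplex

noncomputable section

namespace DerLiftLib

variable {A : Type u} [Category.{v} A] [Abelian A] [EnoughInjectives A]

/-- An injective replacement of the part of `Q` in degrees `≥ -2n`. -/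
structure Stage (Q : CochainComplex A ℤ) (n : ℕ) where
  I : CochainComplex A ℤ
  q : Q ⟶ I
  ge : I.IsStrictlyGE (-(2 * (n : ℤ)) - 1)
  inj : ∀ i, Injective (I.X i)
  iso : ∀ j : ℤ, -(2 * (n : ℤ)) ≤ j → IsIso (homologyMap q j)
  zero : ∀ j : ℤ, j < -(2 * (n : ℤ)) → IsZero (I.homology j)

theorem isZero_homology_of_quasiIso {K L : CochainComplex A ℤ} (φ : K ⟶ L) [QuasiIso φ] (m : ℤ)
    [K.IsStrictlyGE m] (j : ℤ) (hj : j < m) : IsZero (L.homology j) := by
  haveI : IsIso (homologyMap φ j) := inferInstance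
  refine IsZero.of_iso ?_ (asIso (homologyMap φ j)).symm
  exact (ShortComplex.exact_iff_isZero_homology _).1
    (ShortComplex.exact_of_isZero_X₂ _ (K.isZero_of_isStrictlyGE m j hj))

theorem exists_stage_zero (Q : CochainComplex A ℤ) : Nonempty (Stage Q 0) := by
  obtain ⟨I, i, hi, hinj, hge⟩ :=
    CochainComplex.Plus.modelCategoryQuillen.exists_quasiIso_injective (Q.truncGE 0) 0
  haveI := hge
  haveI := hi
  refine ⟨{ I := I, q := Q.πTruncGE 0 ≫ i, ge := I.isStrictlyGE_of_ge _ 0 (by simp), inj := hinj,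
            iso := fun j hj => ?_, zero := fun j hj => isZero_homology_of_quasiIso i 0 j (by simpa using hj) }⟩
  haveI := Q.quasiIsoAt_πTruncGE 0 j (by simpa using hj)
  rw [homologyMap_comp]
  infer_instance

theorem exists_stage_succ {Q : CochainComplex A ℤ} {n : ℕ} (S : Stage Q n) :
    ∃ (S' : Stage Q (n + 1)) (t : S'.I ⟶ S.I), S'.q ≫ t = S.q ∧
      ∀ i, ∃ s : S.I.X i ⟶ S'.I.X i, s ≫ t.f i = 𝟙 _ := by
  let m : ℤ := -(2 * ((n + 1 : ℕ) : ℤ))
  haveI := S.ge
  haveI : S.I.IsStrictlyGE m := S.I.isStrictlyGE_of_ge m (-(2 * (n : ℤ)) - 1) (by simp only [m]; push_cast; omega)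
  haveI : IsIso (S.I.πTruncGE m) := (S.I.isIso_πTruncGE_iff m).2 inferInstance
  let r : Q.truncGE m ⟶ S.I := CochainComplex.truncGEMap S.q m ≫ inv (S.I.πTruncGE m)
  have hr : Q.πTruncGE m ≫ r = S.q := by
    simp only [r]
    rw [← Category.assoc, CochainComplex.πTruncGE_naturality, Category.assoc, IsIso.hom_inv_id, Category.comp_id]
  haveI : (Q.truncGE m).IsStrictlyGE (m - 1 + 1) := (Q.truncGE m).isStrictlyGE_of_ge _ m (by omega)
  haveI : S.I.IsStrictlyGE (m - 1) := S.I.isStrictlyGE_of_ge _ m (by omega)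
  obtain ⟨K', hK', ι, π, hmono, hqis, hπ, hfac⟩ := CochainComplex.Plus.modelCategoryQuillen.cm5a r (m - 1)
  haveI := hqis
  have hsplit : ∀ i, ∃ (J : A) (_ : Injective J) (f : J ⟶ K'.X i) (w : f ≫ π.f i = 0),
      Nonempty (ShortComplex.mk f (π.f i) w).Splitting := fun i => (epiWithInjectiveKernel_iff _).1 (hπ i)
  refine ⟨{ I := K', q := Q.πTruncGE m ≫ ι, ge := hK', inj := fun i => ?_, iso := fun j hj => ?_,
            zero := fun j hj => isZero_homology_of_quasiIso ι m j hj }, π, ?_, fun i => ?_⟩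
  · obtain ⟨J, hJ, f, w, ⟨σ⟩⟩ := hsplit i
    haveI := S.inj i
    exact Injective.of_iso σ.isoBinaryBiproduct.symm inferInstance
  · haveI := Q.quasiIsoAt_πTruncGE m j hj
    rw [homologyMap_comp]
    infer_instance
  · rw [Category.assoc, hfac, hr]
  · obtain ⟨J, hJ, f, w, ⟨σ⟩⟩ := hsplit i
    exact ⟨σ.s, σ.s_g⟩

/-- The tower. -/
def stage (Q : CochainComplex A ℤ) : (n : ℕ) → Stage Q n
  | 0 => (exists_stage_zero Q).some
  | n + 1 => (exists_stage_succ (stage Q n)).choose

/-- The transition maps. -/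
def trans (Q : CochainComplex A ℤ) (n : ℕ) : (stage Q (n + 1)).I ⟶ (stage Q n).I :=
  (exists_stage_succ (stage Q n)).choose_spec.choose

theorem q_trans (Q : CochainComplex A ℤ) (n : ℕ) : (stage Q (n + 1)).q ≫ trans Q n = (stage Q n).q :=
  (exists_stage_succ (stage Q n)).choose_spec.choose_spec.1

theorem exists_section (Q : CochainComplex A ℤ) (n : ℕ) (i : ℤ) :
    ∃ s : (stage Q n).I.X i ⟶ (stage Q (n + 1)).I.X i, s ≫ (trans Q n).f i = 𝟙 _ :=
  (exists_stage_succ (stage Q n)).choose_spec.choose_spec.2 i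

variable [HasExt.{w} A]

theorem acy_homology_stage {Q : CochainComplex A ℤ} {n : ℕ} (S : Stage Q n) {P : A}
    (h : ∀ j, Acy P (Q.homology j)) (j : ℤ) : Acy P (S.I.homology j) := by
  by_cases hj : j < -(2 * (n : ℤ))
  · exact acy_of_isZero P (S.zero j hj)
  · haveI := S.iso j (by omega)
    exact acy_of_iso P (asIso (homologyMap S.q j)) (h j)

end DerLiftLib
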